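import Groth.Agent.Lib.InjMod.Essential
import Mathlib.RingTheory.Flat.Tensor
import Mathlib.RingTheory.Ideal.AssociatedPrime.Basic
import Mathlib.RingTheory.Finiteness.Basic
import Mathlib.Algebra.Module.CharacterModule

/-!
# Flatness descends along finite injective maps of Noetherian rings

An `R`-module `I` whose coextension to `S` is injective is injective: inside an injective hull every
map `S → E` takes values in `I`.
-/

set_option linter.style.haveILetI false
universe u

open TensorProduct

namespace GrothLib.FinInjDescent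

variable {R S : Type u} [CommRing R] [CommRing S] [Algebra R S] [IsNoetherianRing S] [Module.Finite R S]

theorem range_le_of_extends {E : Type u} [AddCommGroup E] [Module R E] (I : Submodule R E)
    (hess : ∀ x : E, x ≠ 0 → ∃ r : R, r • x ∈ I ∧ r • x ≠ 0)
    (hext : ∀ (K : Ideal S) (f : K →ₗ[R] E), (∀ k, f k ∈ I) →
      ∃ g : S →ₗ[R] E, (∀ s, g s ∈ I) ∧ ∀ k : K, g k = f k)
    (ψ : S →ₗ[R] E) (s : S) : ψ s ∈ I := by
  let K : Ideal S :=
    { carrier := {a | ∀ s, ψ (s * a) ∈ I}
      add_mem' := fun {a b} ha hb s => by rw [mul_add, map_add]; exact add_mem (ha s) (hb s)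
      zero_mem' := fun s => by rw [mul_zero, map_zero]; exact zero_mem _
      smul_mem' := fun c a ha s => by rw [smul_eq_mul, ← mul_assoc]; exact ha (s * c) }
  obtain ⟨φ, hφI, hφ⟩ := hext K (ψ ∘ₗ K.subtype.restrictScalars R) fun k => by
    simpa using k.2 1
  let A : Ideal S :=
    { carrier := {a | ∀ s, ψ (s * a) = φ (s * a)}
      add_mem' := fun {a b} ha hb s => by rw [mul_add, map_add, map_add, ha s, hb s]
      zero_mem' := fun s => by rw [mul_zero, map_zero, map_zero]
      smul_mem' := fun c a ha s => by rw [smul_eq_mul, ← mul_assoc]; exact ha (s * c) }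
  have hKA : K ≤ A := fun a ha t => (hφ ⟨t * a, K.mul_mem_left t ha⟩).symm
  by_cases htop : A = ⊤
  · have h1 : (1 : S) ∈ A := htop ▸ Submodule.mem_top
    have h2 := h1 s
    rw [mul_one] at h2
    exact h2 ▸ hφI s
  exfalso
  haveI : Nontrivial (S ⧸ A) := Ideal.Quotient.nontrivial_iff.2 htop
  obtain ⟨q, hq⟩ := associatedPrimes.nonempty S (S ⧸ A)
  obtain ⟨hqP, t, ht⟩ := isAssociatedPrime_iff_exists_injective_linearMap _ _ |>.1 hq
  obtain ⟨x, hx⟩ := Ideal.Quotient.mk_surjective (t (Ideal.Quotient.mk q 1))
  have hqA : ∀ a : S, a * x ∈ A ↔ a ∈ q := fun a => by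
    have h1 : Ideal.Quotient.mk A (a * x) = a • t (Ideal.Quotient.mk q 1) := by rw [← hx]; rfl
    rw [← Ideal.Quotient.eq_zero_iff_mem, h1, ← map_smul, map_eq_zero_iff t ht]
    show Ideal.Quotient.mk q (a * 1) = 0 ↔ _
    rw [mul_one, Ideal.Quotient.eq_zero_iff_mem]
  let δ : S →ₗ[R] E := (ψ - φ) ∘ₗ (LinearMap.mulRight R x)
  have hδ : ∀ a, a ∈ q ↔ ∀ s, δ (s * a) = 0 := fun a => by
    rw [← hqA]
    refine forall_congr' fun s => ?_
    simp only [δ, LinearMap.comp_apply, LinearMap.mulRight_apply, LinearMap.sub_apply, sub_eq_zero, mul_assoc]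
  let p : Ideal R := q.comap (algebraMap R S)
  let T : Ideal R := ⨅ b : S, (I.comap (LinearMap.toSpanSingleton R E (δ b)))
  obtain ⟨F, hF⟩ := (Module.Finite.fg_top : (⊤ : Submodule R S).FG)
  by_cases hT : ∃ a ∈ T, a ∉ p
  · obtain ⟨a, haT, hap⟩ := hT
    refine hap ((hqA _).1 (hKA ?_))
    intro s
    have h1 : a • δ s ∈ I := (Submodule.mem_iInf _).1 haT s
    have h2 : ψ (s * (algebraMap R S a * x)) = a • δ s + φ (s * (algebraMap R S a * x)) := by
      have : s * (algebraMap R S a * x) = a • (s * x) := by rw [Algebra.smul_def]; ring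
      simp only [this, map_smul, δ, LinearMap.comp_apply, LinearMap.mulRight_apply, LinearMap.sub_apply,
        smul_sub, sub_add_cancel]
    rw [h2]
    exact add_mem h1 (hφI _)
  push Not at hT
  let T' : Ideal R := ⨅ b ∈ F, (I.comap (LinearMap.toSpanSingleton R E (δ b)))
  have hT' : T' ≤ p := fun a ha => hT a <| (Submodule.mem_iInf _).2 fun b => by
    have hb : b ∈ Submodule.span R (F : Set S) := hF ▸ Submodule.mem_top
    show a • δ b ∈ I
    induction hb using Submodule.span_induction with
    | mem y hy => exact (Submodule.mem_iInf _).1 ((Submodule.mem_iInf _).1 ha y) hy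
    | zero => rw [map_zero, smul_zero]; exact zero_mem _
    | add y z _ _ hy hz => rw [map_add, smul_add]; exact add_mem hy hz
    | smul c y _ hy => rw [map_smul, smul_comm]; exact I.smul_mem c hy
  haveI : p.IsPrime := Ideal.IsPrime.comap _
  obtain ⟨b, hb, hbp⟩ : ∃ b ∈ F, I.comap (LinearMap.toSpanSingleton R E (δ b)) ≤ p := by
    have h : F.inf (fun b => (I.comap (LinearMap.toSpanSingleton R E (δ b)) : Ideal R)) ≤ p := by
      rw [Finset.inf_eq_iInf]; exact hT'
    exact (Ideal.IsPrime.inf_le' inferInstance).1 h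
  have hne : δ b ≠ 0 := fun h0 => (Ideal.IsPrime.ne_top (I := p) inferInstance) (top_le_iff.1 fun a _ => hbp (by
    show a • δ b ∈ I
    rw [h0, smul_zero]; exact zero_mem _))
  obtain ⟨r, hr, hr0⟩ := hess _ hne
  refine hr0 ?_
  have h1 : algebraMap R S r ∈ q := hbp hr
  rw [← map_smul, Algebra.smul_def, mul_comm]
  exact (hδ _).1 h1 b

variable [IsNoetherianRing R]

theorem flat_of_flat_baseChange (hinj : Function.Injective (algebraMap R S)) (P : Type u) [AddCommGroup P]
    [Module R P] [Module.Flat S (S ⊗[R] P)] : Module.Flat R P := by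
  rw [Module.Flat.iff_characterModule_injective]
  obtain ⟨E, _, _, f, hf⟩ := GrothLib.InjMod.exists_injective_hull (R := R) (CharacterModule P)
  have hfi : Function.Injective f := hf.toIsEssentialInj.injective
  have hsurj : Function.Surjective f := by
    intro e
    haveI := hf.isInjective
    obtain ⟨ψ, hψ⟩ := Module.Injective.out (Algebra.linearMap R S) hinj (LinearMap.toSpanSingleton R E e)
    have h1 : ψ 1 = e := by simpa using hψ 1
    suffices ψ 1 ∈ LinearMap.range f by rwa [h1] at this
    refine range_le_of_extends (LinearMap.range f)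
      ((GrothLib.InjMod.isEssentialInj_iff f).1 hf.toIsEssentialInj).2 (fun K g hg => ?_) ψ 1
    let i : K →ₗ[R] S := K.subtype.restrictScalars R
    have hiP : Function.Injective (i.rTensor P) := by
      let e₁ := AlgebraTensorModule.cancelBaseChange R S S K P
      let e₂ := AlgebraTensorModule.cancelBaseChange R S S S P
      have h := Module.Flat.rTensor_preserves_injective_linearMap (M := S ⊗[R] P) K.subtype K.subtype_injective
      have hnat : ∀ z : K ⊗[S] (S ⊗[R] P), i.rTensor P (e₁ z) = e₂ (K.subtype.rTensor _ z) := by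
        intro z
        induction z with
        | zero => simp
        | add a b ha hb => simp only [map_add, ha, hb]
        | tmul k w =>
          induction w with
          | zero => simp
          | add a b ha hb => simp only [tmul_add, map_add, ha, hb]
          | tmul s p => simp [e₁, e₂, i]
      intro a b hab
      obtain ⟨a, rfl⟩ := e₁.surjective a
      obtain ⟨b, rfl⟩ := e₁.surjective b
      rw [hnat, hnat] at hab
      rw [h (e₂.injective hab)]
    let e := LinearEquiv.ofInjective f hfi
    obtain ⟨G, hG⟩ := (rTensor_injective_iff_lcomp_surjective.1 hiP)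
      (e.symm.toLinearMap ∘ₗ g.codRestrict _ hg)
    refine ⟨f ∘ₗ G, fun s => LinearMap.mem_range_self _ _, fun k => ?_⟩
    have hk : G (k : S) = e.symm (g.codRestrict _ hg k) := LinearMap.congr_fun hG k
    rw [LinearMap.comp_apply, hk, ← LinearEquiv.ofInjective_apply f (h := hfi), LinearEquiv.apply_symm_apply]
    rfl
  haveI := hf.isInjective
  exact GrothLib.InjMod.injective_of_linearEquiv (LinearEquiv.ofBijective f ⟨hfi, hsurj⟩) hf.isInjective

end GrothLib.FinInjDescent
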