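import Groth.Agent.Lib.FinInjDescent.Flat
import Groth.Agent.Lib.FlatLimit.Global
import Mathlib.RingTheory.IntegralClosure.IsIntegralClosure.Basic

/-!
# Flatness descends along injective integral maps, for finitely presented data
-/

set_option linter.style.haveILetI false
universe u

open TensorProduct

namespace GrothLib.FinInjDescent

attribute [local instance] MvPolynomial.algebraMvPolynomial

theorem flat_of_flat_baseChange_integral {R₀ R S : Type u} [CommRing R₀] [IsNoetherianRing R₀] [CommRing R]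
    [CommRing S] [Algebra R₀ R] [Algebra R S] [Algebra.IsIntegral R S] (hinj : Function.Injective (algebraMap R S))
    (B₀ : Type u) [CommRing B₀] [Algebra R₀ B₀] [Algebra.FinitePresentation R₀ B₀] (M₀ : Type u) [AddCommGroup M₀]
    [Module B₀ M₀] [Module R₀ M₀] [IsScalarTower R₀ B₀ M₀] [Module.FinitePresentation B₀ M₀]
    (M : Type u) [AddCommGroup M] [Module R M] (e : R ⊗[R₀] M₀ ≃ₗ[R] M) [Module.Flat S (S ⊗[R] M)] :
    Module.Flat R M := by
  classical
  letI : Algebra R₀ S := ((algebraMap R S).comp (algebraMap R₀ R)).toAlgebra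
  haveI : IsScalarTower R₀ R S := IsScalarTower.of_algebraMap_eq fun _ => rfl
  haveI : Module.Flat S (S ⊗[R₀] M₀) := Module.Flat.of_linearEquiv
    ((AlgebraTensorModule.cancelBaseChange R₀ R S S M₀).symm ≪≫ₗ e.baseChange R S _ _)
  choose f hf hfx using fun x : S => Algebra.IsIntegral.isIntegral (R := R) x
  let co : Finset S → Finset R := fun T => T.biUnion fun x => (f x).coeffs
  let R₁ : Finset S → Subalgebra R₀ R := fun T => Algebra.adjoin R₀ (co T : Set R)
  let G : Finset S → Subalgebra R₀ S := fun T =>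
    Algebra.adjoin R₀ ((T : Set S) ∪ algebraMap R S '' (co T : Set R))
  have hmono : ∀ T T', T ⊆ T' → G T ≤ G T' := fun T T' h => Algebra.adjoin_mono
    (Set.union_subset_union (Finset.coe_subset.2 h) (Set.image_mono (Finset.coe_subset.2 (Finset.biUnion_subset_biUnion_of_subset_left _ h))))
  obtain ⟨T, hT⟩ := GrothLib.FlatLimit.exists_stage_flat (A := S) (fun T => G T)
    (fun T T' => ⟨T ∪ T', Subalgebra.inclusion (hmono _ _ Finset.subset_union_left),
      Subalgebra.inclusion (hmono _ _ Finset.subset_union_right), fun _ => rfl, fun _ => rfl⟩)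
    (fun T => ⟨T, fun x hx => ⟨⟨x, Algebra.subset_adjoin (Or.inl hx)⟩, rfl⟩⟩)
    (fun T p hp => ⟨T, AlgHom.id R₀ _, fun _ => rfl, fun x hx => Subtype.ext (hp x hx)⟩) B₀ M₀
  have hsub : ∀ x : R₁ T, algebraMap R S x ∈ G T := fun x => by
    have h : R₁ T ≤ (G T).comap (IsScalarTower.toAlgHom R₀ R S) :=
      Algebra.adjoin_le fun y hy => Algebra.subset_adjoin (Or.inr ⟨y, hy, rfl⟩)
    exact h x.2
  let φ : R₁ T →ₐ[R₀] G T :=
    ((IsScalarTower.toAlgHom R₀ R S).comp (R₁ T).val).codRestrict (G T) hsub
  letI : Algebra (R₁ T) (G T) := φ.toRingHom.toAlgebra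
  haveI : IsScalarTower R₀ (R₁ T) (G T) := IsScalarTower.of_algHom φ
  haveI : IsNoetherianRing (R₁ T) := isNoetherianRing_of_fg (Subalgebra.fg_adjoin_finset _)
  haveI : IsNoetherianRing (G T) := isNoetherianRing_of_fg
    (Subalgebra.fg_def.2 ⟨_, (Finset.finite_toSet T).union ((Finset.finite_toSet _).image _), rfl⟩)
  have hφinj : Function.Injective (algebraMap (R₁ T) (G T)) := fun a b h =>
    Subtype.ext (hinj (congrArg Subtype.val h))
  let val : G T →ₐ[R₁ T] S := { (G T).val.toRingHom with commutes' := fun _ => rfl }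
  haveI : Module.Finite (R₁ T) (G T) := by
    haveI : Algebra.FiniteType (R₁ T) (G T) := Algebra.FiniteType.of_restrictScalars_finiteType R₀ _ _
      (hA := (G T).fg_iff_finiteType.1
        (Subalgebra.fg_def.2 ⟨_, (Finset.finite_toSet T).union ((Finset.finite_toSet _).image _), rfl⟩))
    haveI : Algebra.IsIntegral (R₁ T) (G T) := by
      refine ⟨fun ⟨x, hx⟩ => ?_⟩
      refine (isIntegral_algHom_iff val (Subtype.val_injective : Function.Injective (val : G T → S))).1 ?_
      show IsIntegral (R₁ T) x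
      induction hx using Algebra.adjoin_induction with
      | mem y hy =>
        rcases hy with hy | ⟨z, hz, rfl⟩
        · have hc : ((f y).coeffs : Set R) ⊆ Set.range (algebraMap (R₁ T) R) := fun c hc =>
            ⟨⟨c, Algebra.subset_adjoin (Finset.mem_coe.2 (Finset.mem_biUnion.2 ⟨y, hy, hc⟩))⟩, rfl⟩
          obtain ⟨g, hg, -, hgm⟩ := Polynomial.lifts_and_natDegree_eq_and_monic
            ((Polynomial.lifts_iff_coeffs_subset_range (f y)).2 hc) (hf y)
          refine ⟨g, hgm, ?_⟩
          have := hfx y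
          rw [← hg, Polynomial.eval₂_map] at this
          exact this
        · exact isIntegral_algebraMap (x := (⟨z, Algebra.subset_adjoin hz⟩ : R₁ T))
      | algebraMap r => exact isIntegral_algebraMap (x := algebraMap R₀ (R₁ T) r)
      | add a b _ _ ha hb => exact ha.add hb
      | mul a b _ _ ha hb => exact ha.mul hb
    exact Algebra.IsIntegral.finite
  haveI : Module.Flat (G T) (G T ⊗[R₁ T] (R₁ T ⊗[R₀] M₀)) := Module.Flat.of_linearEquiv
    (AlgebraTensorModule.cancelBaseChange R₀ (R₁ T) (G T) (G T) M₀)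
  haveI : Module.Flat (R₁ T) (R₁ T ⊗[R₀] M₀) := flat_of_flat_baseChange hφinj _
  haveI : Module.Flat R (R ⊗[R₀] M₀) := Module.Flat.of_linearEquiv
    (AlgebraTensorModule.cancelBaseChange R₀ (R₁ T) R R M₀).symm
  exact Module.Flat.of_linearEquiv e.symm

end GrothLib.FinInjDescent
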