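import Groth.Agent.Lib.ML.Ops
import Groth.Agent.Lib.ML.Descent
import Mathlib.RingTheory.Ideal.GoingUp
import Mathlib.RingTheory.Localization.FractionRing
import Mathlib.RingTheory.Flat.Localization
import Mathlib.LinearAlgebra.TensorProduct.Quotient

/-!
# The Mittag-Leffler condition descends along finite injective maps of Noetherian rings

Dévissage on the annihilator of the family of modules, for flat modules.
-/

set_option linter.style.haveILetI false
universe u

open TensorProduct

namespace GrothLib.FinInjDescent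

theorem piRightHom_map {R : Type u} [CommRing R] (P : Type u) [AddCommGroup P] [Module R P] {ι : Type u}
    {Q Q' : ι → Type u} [∀ i, AddCommGroup (Q i)] [∀ i, Module R (Q i)] [∀ i, AddCommGroup (Q' i)]
    [∀ i, Module R (Q' i)] (g : ∀ i, Q i →ₗ[R] Q' i) (z : P ⊗[R] (∀ i, Q i)) (i : ι) :
    TensorProduct.piRightHom R R P Q' ((LinearMap.pi fun j => g j ∘ₗ LinearMap.proj j).lTensor P z) i =
      (g i).lTensor P (TensorProduct.piRightHom R R P Q z i) := by
  induction z with
  | zero => simp
  | add a b ha hb => simp only [map_add, Pi.add_apply, ha, hb]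
  | tmul p q => simp

/-- A functional on a finite algebra over a domain which does not vanish at `1`. -/
theorem exists_functional (D L : Type u) [CommRing D] [IsDomain D] [CommRing L] [Algebra D L]
    [Module.Finite D L] (hinj : Function.Injective (algebraMap D L)) :
    ∃ μ : L →ₗ[D] D, μ 1 ≠ 0 := by
  classical
  let K := FractionRing D
  have h1 : (1 : K) ⊗ₜ[D] (1 : L) ≠ 0 := by
    intro h
    have hf : Function.Injective ((Algebra.linearMap D L).lTensor K) :=
      Module.Flat.lTensor_preserves_injective_linearMap _ hinj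
    have h2 : ((1 : K) ⊗ₜ[D] (1 : D)) = 0 := hf (by simpa using h)
    have h3 := congrArg (TensorProduct.rid D K) h2
    simp at h3
  obtain ⟨φ, hφ⟩ := Module.Projective.exists_dual_ne_zero K h1
  let ν : L →ₗ[D] K := (φ.restrictScalars D) ∘ₗ (TensorProduct.mk D K L 1)
  obtain ⟨F, hF⟩ := (Module.Finite.fg_top : (⊤ : Submodule D L).FG)
  obtain ⟨⟨d, hd⟩, hdF⟩ := IsLocalization.exist_integer_multiples (nonZeroDivisors D) F fun x => ν x
  have hrange : ∀ x : L, (d • ν) x ∈ LinearMap.range (Algebra.linearMap D K) := by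
    intro x
    have hx : x ∈ Submodule.span D (F : Set L) := hF ▸ Submodule.mem_top
    induction hx using Submodule.span_induction with
    | mem y hy =>
      obtain ⟨z, hz⟩ := hdF y hy
      exact ⟨z, hz⟩
    | zero => rw [map_zero]; exact zero_mem _
    | add y z _ _ hy hz => rw [map_add]; exact add_mem hy hz
    | smul c y _ hy => rw [map_smul]; exact Submodule.smul_mem _ c hy
  let e := LinearEquiv.ofInjective (Algebra.linearMap D K) (IsFractionRing.injective D K)
  refine ⟨e.symm.toLinearMap ∘ₗ (d • ν).codRestrict _ hrange, fun h => ?_⟩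
  have h4 : (d • ν).codRestrict _ hrange 1 = 0 := e.symm.map_eq_zero_iff.1 h
  have h5 : d • ν 1 = 0 := congrArg Subtype.val h4
  rcases smul_eq_zero.1 h5 with h6 | h6
  · exact nonZeroDivisors.ne_zero hd h6
  · exact hφ h6

variable {R S : Type u} [CommRing R] [CommRing S] [Algebra R S]

/-- For a prime, a functional `S → R/p` not vanishing at `1`. -/
theorem exists_functional_mod [Module.Finite R S] (hinj : Function.Injective (algebraMap R S))
    (p : Ideal R) [p.IsPrime] :
    ∃ (f : R) (μ : S →ₗ[R] R ⧸ p), f ∉ p ∧ μ 1 = Ideal.Quotient.mk p f := by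
  obtain ⟨q, -, hq, hqp⟩ := Ideal.exists_ideal_over_prime_of_isIntegral p (⊥ : Ideal S)
    (by rw [← RingHom.ker_eq_comap_bot, (RingHom.injective_iff_ker_eq_bot _).1 hinj]; exact bot_le)
  haveI : q.LiesOver p := ⟨hqp.symm⟩
  haveI : Module.Finite R (S ⧸ q) :=
    Module.Finite.of_surjective (Ideal.Quotient.mkₐ R q).toLinearMap Ideal.Quotient.mk_surjective
  haveI : Module.Finite (R ⧸ p) (S ⧸ q) := Module.Finite.of_restrictScalars_finite R _ _
  obtain ⟨μ, hμ⟩ := exists_functional (R ⧸ p) (S ⧸ q) (by
    rw [injective_iff_map_eq_zero]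
    intro a ha
    obtain ⟨a, rfl⟩ := Ideal.Quotient.mk_surjective a
    rw [Ideal.Quotient.eq_zero_iff_mem, ← hqp, Ideal.mem_comap, ← Ideal.Quotient.eq_zero_iff_mem]
    exact ha)
  obtain ⟨f, hf⟩ := Ideal.Quotient.mk_surjective (μ 1)
  exact ⟨f, μ.restrictScalars R ∘ₗ (Ideal.Quotient.mkₐ R q).toLinearMap,
    fun hfp => hμ (by rw [← hf, Ideal.Quotient.eq_zero_iff_mem.2 hfp]), by
      rw [LinearMap.comp_apply, hf]; simp⟩

variable (S) in
/-- Injectivity of `P ⊗ ∏ → ∏ P ⊗` for families of `S`-modules. -/
theorem injective_piRightHom_of_ml (P : Type u) [AddCommGroup P] [Module R P]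
    (hS : CAlg.IsMittagLeffler S (S ⊗[R] P)) {ι : Type u} (X : ι → Type u) [∀ i, AddCommGroup (X i)]
    [∀ i, Module R (X i)] [∀ i, Module S (X i)] [∀ i, IsScalarTower R S (X i)] :
    Function.Injective (TensorProduct.piRightHom R R P X) := by
  rw [injective_iff_map_eq_zero]
  intro z hz
  obtain ⟨w, rfl⟩ := (GrothLib.ML.cancelEquiv S P (∀ i, X i)).surjective z
  suffices w = 0 by rw [this, map_zero]
  refine (injective_iff_map_eq_zero _).1 (hS ι X) w (funext fun i => ?_)
  have hnat : ∀ w, GrothLib.ML.cancelEquiv S P (X i) (TensorProduct.piRightHom S S (S ⊗[R] P) X w i) =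
      TensorProduct.piRightHom R R P X (GrothLib.ML.cancelEquiv S P (∀ j, X j) w) i := by
    intro w
    induction w with
    | zero => simp
    | add a b ha hb => simp only [map_add, Pi.add_apply, ha, hb]
    | tmul v x =>
      induction v with
      | zero => simp
      | add a b ha hb => simp only [add_tmul, map_add, Pi.add_apply, ha, hb]
      | tmul s p => simp [GrothLib.ML.cancelEquiv]
  refine (GrothLib.ML.cancelEquiv S P (X i)).injective ?_
  rw [hnat, hz, Pi.zero_apply, Pi.zero_apply, map_zero]

variable [IsNoetherianRing R] [Module.Finite R S]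

theorem ml_of_flat_of_ml_baseChange (hinj : Function.Injective (algebraMap R S)) (P : Type u)
    [AddCommGroup P] [Module R P] [Module.Flat R P] (hS : CAlg.IsMittagLeffler S (S ⊗[R] P)) :
    CAlg.IsMittagLeffler R P := by
  suffices H : ∀ I : Ideal R, ∀ (ι : Type u) (Q : ι → Type u) [∀ i, AddCommGroup (Q i)] [∀ i, Module R (Q i)],
      (∀ a ∈ I, ∀ i (x : Q i), a • x = 0) → Function.Injective (TensorProduct.piRightHom R R P Q) by
    intro ι Q _ _
    exact H ⊥ ι Q fun a ha i x => by rw [Ideal.mem_bot] at ha; rw [ha, zero_smul]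
  intro I
  induction I using WellFoundedGT.induction with
  | _ I ih =>
    intro ι Q _ _ hI
    rw [injective_iff_map_eq_zero]
    intro z hz
    have hz' : ∀ i, TensorProduct.piRightHom R R P Q z i = 0 := fun i => congrFun hz i
    by_cases htop : I = ⊤
    · haveI : ∀ i, Subsingleton (Q i) := fun i => subsingleton_of_forall_eq 0 fun x => by
        have h := hI 1 (htop ▸ Submodule.mem_top) i x
        rwa [one_smul] at h
      haveI : Subsingleton (P ⊗[R] (∀ i, Q i)) :=
        (TensorProduct.comm R P (∀ i, Q i)).toEquiv.subsingleton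
      exact Subsingleton.elim _ _
    by_cases hI' : I.IsPrime
    swap
    · obtain ⟨a, b, hab, ha, hb⟩ : ∃ a b, a * b ∈ I ∧ a ∉ I ∧ b ∉ I := by
        by_contra hc
        simp only [not_exists, not_and, not_not] at hc
        exact hI' ⟨htop, fun {x y} hxy => or_iff_not_imp_left.2 fun hx => hc x y hxy hx⟩
      let g : ∀ i, Q i →ₗ[R] Q i := fun i => LinearMap.lsmul R (Q i) a
      let A : ι → Type u := fun i => LinearMap.range (g i)
      let B : ι → Type u := fun i => Q i ⧸ LinearMap.range (g i)
      let iA : ∀ i, A i →ₗ[R] Q i := fun i => (LinearMap.range (g i)).subtype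
      let qB : ∀ i, Q i →ₗ[R] B i := fun i => (LinearMap.range (g i)).mkQ
      have hBI : ∀ c ∈ I ⊔ Ideal.span {a}, ∀ i (x : B i), c • x = 0 := by
        intro c hc i x
        obtain ⟨x, rfl⟩ := Submodule.mkQ_surjective (LinearMap.range (g i)) x
        obtain ⟨c₁, hc₁, c₂, hc₂, rfl⟩ := Submodule.mem_sup.1 hc
        obtain ⟨r, rfl⟩ := Ideal.mem_span_singleton'.1 hc₂
        refine (Submodule.Quotient.mk_eq_zero _).2 ?_
        show (c₁ + r * a) • x ∈ LinearMap.range (g i)
        rw [add_smul, hI c₁ hc₁, zero_add, mul_smul, smul_comm]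
        exact ⟨r • x, rfl⟩
      have hAI : ∀ c ∈ I ⊔ Ideal.span {b}, ∀ i (x : A i), c • x = 0 := by
        rintro c hc i ⟨_, x, rfl⟩
        obtain ⟨c₁, hc₁, c₂, hc₂, rfl⟩ := Submodule.mem_sup.1 hc
        obtain ⟨r, rfl⟩ := Ideal.mem_span_singleton'.1 hc₂
        apply Subtype.ext
        show (c₁ + r * b) • (a • x) = 0
        rw [add_smul, hI c₁ hc₁, zero_add, smul_smul, mul_assoc, mul_comm b a]
        exact hI _ (I.mul_mem_left r hab) i x
      have hB := ih (I ⊔ Ideal.span {a}) (lt_of_le_of_ne le_sup_left fun e =>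
        ha (e.ge (Ideal.mem_sup_right (Ideal.mem_span_singleton_self a)))) ι B hBI
      have hA := ih (I ⊔ Ideal.span {b}) (lt_of_le_of_ne le_sup_left fun e =>
        hb (e.ge (Ideal.mem_sup_right (Ideal.mem_span_singleton_self b)))) ι A hAI
      have hex : Function.Exact (LinearMap.pi fun i => iA i ∘ₗ LinearMap.proj i)
          (LinearMap.pi fun i => qB i ∘ₗ LinearMap.proj i) := by
        intro x
        constructor
        · intro h
          exact ⟨fun i => ⟨x i, (Submodule.Quotient.mk_eq_zero _).1 (congrFun h i)⟩, rfl⟩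
        · rintro ⟨y, rfl⟩
          exact funext fun i => (Submodule.Quotient.mk_eq_zero _).2 (y i).2
      have hsur : Function.Surjective (LinearMap.pi fun i => qB i ∘ₗ LinearMap.proj i) := fun x =>
        ⟨fun i => (Submodule.mkQ_surjective _ (x i)).choose,
          funext fun i => (Submodule.mkQ_surjective _ (x i)).choose_spec⟩
      have h1 : (LinearMap.pi fun i => qB i ∘ₗ LinearMap.proj i).lTensor P z = 0 :=
        (injective_iff_map_eq_zero _).1 hB _ (funext fun i => by rw [piRightHom_map, hz' i, map_zero]; rfl)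
      obtain ⟨w, rfl⟩ := (lTensor_exact P hex hsur z).1 h1
      suffices w = 0 by rw [this, map_zero]
      refine (injective_iff_map_eq_zero _).1 hA w (funext fun i => ?_)
      refine Module.Flat.lTensor_preserves_injective_linearMap (M := P) (iA i) Subtype.val_injective ?_
      rw [← piRightHom_map, hz' i, Pi.zero_apply, map_zero]
    haveI := hI'
    obtain ⟨f, μ, hf, hμ⟩ := exists_functional_mod hinj I
    let u : ∀ i, Q i →ₗ[R] S ⊗[R] Q i := fun i => TensorProduct.mk R S (Q i) 1
    have h1 : (LinearMap.pi fun i => u i ∘ₗ LinearMap.proj i).lTensor P z = 0 :=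
      (injective_iff_map_eq_zero _).1 (injective_piRightHom_of_ml S P hS fun i => S ⊗[R] Q i) _
        (funext fun i => by rw [piRightHom_map, hz' i, map_zero]; rfl)
    let v : ∀ i, S ⊗[R] Q i →ₗ[R] Q i := fun i =>
      (Submodule.quotEquivOfEqBot (I • (⊤ : Submodule R (Q i))) (le_bot_iff.1 (Submodule.smul_le.2 fun a ha x _ => (Submodule.mem_bot R).2 (hI a ha i x)))).toLinearMap ∘ₗ
        (TensorProduct.quotTensorEquivQuotSMul (Q i) I).toLinearMap ∘ₗ μ.rTensor (Q i)
    have hvu : (LinearMap.pi fun i => v i ∘ₗ LinearMap.proj i) ∘ₗ (LinearMap.pi fun i => u i ∘ₗ LinearMap.proj i) =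
        LinearMap.lsmul R (∀ i, Q i) f := by
      refine LinearMap.ext fun x => funext fun i => ?_
      simp [u, v, hμ]
    have h2 : (LinearMap.lsmul R (∀ i, Q i) f).lTensor P z = 0 := by
      rw [← hvu, LinearMap.lTensor_comp, LinearMap.comp_apply, h1, map_zero]
    let T : ι → Type u := fun i => LinearMap.ker (LinearMap.lsmul R (Q i) f)
    let iT : ∀ i, T i →ₗ[R] Q i := fun i => (LinearMap.ker (LinearMap.lsmul R (Q i) f)).subtype
    have hTI : ∀ c ∈ I ⊔ Ideal.span {f}, ∀ i (x : T i), c • x = 0 := by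
      rintro c hc i ⟨x, hx⟩
      obtain ⟨c₁, hc₁, c₂, hc₂, rfl⟩ := Submodule.mem_sup.1 hc
      obtain ⟨r, rfl⟩ := Ideal.mem_span_singleton'.1 hc₂
      apply Subtype.ext
      show (c₁ + r * f) • x = 0
      rw [add_smul, hI c₁ hc₁, zero_add, mul_smul, show f • x = 0 from hx, smul_zero]
    have hT := ih (I ⊔ Ideal.span {f}) (lt_of_le_of_ne le_sup_left fun e =>
      hf (e.ge (Ideal.mem_sup_right (Ideal.mem_span_singleton_self f)))) ι T hTI
    have hexT : Function.Exact (LinearMap.pi fun i => iT i ∘ₗ LinearMap.proj i)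
        (LinearMap.lsmul R (∀ i, Q i) f) := by
      intro x
      constructor
      · intro h
        exact ⟨fun i => ⟨x i, congrFun h i⟩, rfl⟩
      · rintro ⟨y, rfl⟩
        exact funext fun i => (y i).2
    obtain ⟨w, rfl⟩ := (Module.Flat.lTensor_exact P hexT z).1 h2
    suffices w = 0 by rw [this, map_zero]
    refine (injective_iff_map_eq_zero _).1 hT w (funext fun i => ?_)
    refine Module.Flat.lTensor_preserves_injective_linearMap (M := P) (iT i) Subtype.val_injective ?_
    rw [← piRightHom_map, hz' i, Pi.zero_apply, map_zero]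

end GrothLib.FinInjDescent
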