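import Groth.Agent.Lib.ProjDescent.Main
import Groth.Agent.Lib.ML.Countable
import Groth.Agent.Lib.ML.Ops
import Groth.Agent.Lib.FinInjDescent.Flat
import Groth.Agent.Lib.FinInjDescent.ML

/-!
# Projectivity descends along finite injective maps of Noetherian rings
-/

universe u

set_option maxSynthPendingDepth 3

open TensorProduct GrothLib.ProjDescent

namespace GrothLib.FinInjDescent

variable {R : Type u} [CommRing R]

theorem projective_of_countable {S : Type u} [CommRing S] [Algebra R S] [IsNoetherianRing R]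
    [IsNoetherianRing S] [Module.Finite R S] (hinj : Function.Injective (algebraMap R S))
    {Q : Type u} [AddCommGroup Q] [Module R Q] [Module.Projective S (S ⊗[R] Q)]
    (hc : CAlg.IsCountablyGenerated R Q) : Module.Projective R Q := by
  haveI : Module.Flat R Q := flat_of_flat_baseChange hinj Q
  exact GrothLib.ML.projective_of_countable
    (ml_of_flat_of_ml_baseChange hinj Q (GrothLib.ML.ml_of_projective _)) hc

/-- Descent of projectivity along finite injective maps of Noetherian rings. -/
theorem projective_of_projective_baseChange (S : Type u) [CommRing S] [Algebra R S]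
    [IsNoetherianRing R] [IsNoetherianRing S] [Module.Finite R S] (hinj' : Function.Injective (algebraMap R S))
    (M : Type u) [AddCommGroup M] [Module R M]
    [Module.Projective S (S ⊗[R] M)] : Module.Projective R M := by
  classical
  obtain ⟨i, hi⟩ := (Module.projective_def' (R := S) (P := S ⊗[R] M)).mp ‹_›
  let J := S ⊗[R] M
  let p : (J →₀ S) →ₗ[S] S ⊗[R] M := Finsupp.linearCombination S id
  let P : Set (Set (Submodule R M) × Set J) := {x | Adapted i p (sSup x.1) x.2 ∧
    sSupIndep x.1 ∧ ∀ N ∈ x.1, Module.Projective R N}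
  obtain ⟨⟨𝒩, J'⟩, hmax⟩ : ∃ x, Maximal (· ∈ P) x := by
    refine zorn_le₀ P fun c hc hchain => ?_
    rcases c.eq_empty_or_nonempty with rfl | hne
    · refine ⟨(∅, ∅), ⟨?_, sSupIndep_empty, fun N hN => hN.elim⟩, fun z hz => hz.elim⟩
      rw [sSup_empty]; exact adapted_bot i p
    have hd : DirectedOn (· ≤ ·) c := hchain.directedOn
    refine ⟨(⋃ x ∈ c, x.1, ⋃ x ∈ c, x.2), ⟨?_, ?_, ?_⟩, fun z hz =>
      ⟨Set.subset_biUnion_of_mem (u := Prod.fst) hz, Set.subset_biUnion_of_mem (u := Prod.snd) hz⟩⟩
    · have : Nonempty ↥c := hne.to_subtype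
      have h1 : sSup (⋃ x ∈ c, x.1) = ⨆ x : ↥c, sSup x.1.1 := by
        rw [Set.biUnion_eq_iUnion, sSup_iUnion]
      have h2 : (⋃ x ∈ c, x.2) = ⋃ x : ↥c, x.1.2 := Set.biUnion_eq_iUnion _ _
      change Adapted i p (sSup (⋃ x ∈ c, x.1)) (⋃ x ∈ c, x.2)
      rw [h1, h2]
      refine adapted_sUnion i p _ _ ?_ fun x => (hc x.2).1
      intro a b
      obtain ⟨z, hz, haz, hbz⟩ := hd a.1 a.2 b.1 b.2
      exact ⟨⟨z, hz⟩, sSup_le_sSup haz.1, sSup_le_sSup hbz.1⟩
    · change sSupIndep (⋃ x ∈ c, x.1)
      rw [Set.biUnion_eq_iUnion]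
      refine sSupIndep_iUnion_of_directed ?_ fun x => (hc x.2).2.1
      intro a b
      obtain ⟨z, hz, haz, hbz⟩ := hd a.1 a.2 b.1 b.2
      exact ⟨⟨z, hz⟩, haz.1, hbz.1⟩
    · rintro N hN
      obtain ⟨x, hx, hN⟩ := Set.mem_iUnion₂.mp hN
      exact (hc hx).2.2 N hN
  obtain ⟨hA, hI, hP⟩ := hmax.prop
  have htop : sSup 𝒩 = ⊤ := by
    by_contra hne
    obtain ⟨m, hm⟩ : ∃ m, m ∉ sSup 𝒩 := by
      by_contra h
      push Not at h
      exact hne (top_le_iff.mp fun x _ => h x)
    obtain ⟨C, J'', hC, hJ, hA', hmC⟩ := exists_countable_adapted i p _ _ hA m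
    let M' := sSup 𝒩
    let M'' := M' ⊔ Submodule.span R C
    have hle : M' ≤ M'' := le_sup_left
    let Q := Submodule.map M'.mkQ M''
    have hQ : Submodule.span R ((fun c : ↥C => (⟨M'.mkQ c.1, Submodule.mem_map_of_mem
        (Submodule.mem_sup_right (Submodule.subset_span c.2))⟩ : ↥Q)) '' Set.univ) = ⊤ := by
      apply Submodule.map_injective_of_injective Q.injective_subtype
      rw [Submodule.map_span, Submodule.map_top, Submodule.range_subtype, ← Set.image_comp]
      have h1 : (Q.subtype ∘ fun c : ↥C => (⟨M'.mkQ c.1, Submodule.mem_map_of_mem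
        (Submodule.mem_sup_right (Submodule.subset_span c.2))⟩ : ↥Q)) '' Set.univ = M'.mkQ '' C := by
        ext x; simp
      rw [h1, ← Submodule.map_span]
      simp [Q, M'', Submodule.map_sup, Submodule.mkQ_map_self]
    have : Module.Projective S (S ⊗[R] Q) := by
      have := projective_quotient (by exact hi) hA'
      have e : ((M ⧸ M') ⧸ Q) ≃ₗ[R] M ⧸ M'' := Submodule.quotientQuotientEquivQuotient M' M'' hle
      have hPq : Module.Projective S (S ⊗[R] ((M ⧸ M') ⧸ Q)) :=
        Module.Projective.of_equiv (e.baseChange R S _ _).symm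
      have hPM := projective_quotient (by exact hi) hA
      obtain ⟨σ, hσ⟩ := Module.projective_lifting_property (Q.mkQ.baseChange S) LinearMap.id
        (LinearMap.lTensor_surjective S Q.mkQ_surjective)
      haveI : Module.Flat S (S ⊗[R] ((M ⧸ M') ⧸ Q)) := by
        haveI := hPq
        infer_instance
      haveI : Module.Flat R ((M ⧸ M') ⧸ Q) := flat_of_flat_baseChange hinj' _
      have hinj : Function.Injective (Q.subtype.baseChange S) :=
        LinearMap.lTensor_injective_of_exact_of_flat Q.mkQ Q.mkQ_surjective Q.subtype Q.injective_subtype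
          (LinearMap.exact_subtype_mkQ Q) S
      have hex : Function.Exact (Q.subtype.baseChange S) (Q.mkQ.baseChange S) :=
        lTensor_exact S (LinearMap.exact_subtype_mkQ Q) Q.mkQ_surjective
      have hmem : ∀ w, w - σ (Q.mkQ.baseChange S w) ∈ LinearMap.range (Q.subtype.baseChange S) := by
        intro w
        have := LinearMap.congr_fun hσ (Q.mkQ.baseChange S w)
        exact (hex _).mp (by rw [map_sub, sub_eq_zero]; exact this.symm)
      let e' := LinearEquiv.ofInjective (Q.subtype.baseChange S) hinj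
      refine Module.Projective.of_split (Q.subtype.baseChange S)
        (e'.symm.toLinearMap ∘ₗ LinearMap.codRestrict _ (LinearMap.id - σ ∘ₗ Q.mkQ.baseChange S) hmem)
        (LinearMap.ext fun w => ?_)
      apply e'.injective
      rw [LinearMap.comp_apply, LinearMap.comp_apply, LinearEquiv.coe_coe,
        LinearEquiv.apply_symm_apply, LinearMap.id_apply]
      apply Subtype.ext
      change Q.subtype.baseChange S w - σ (Q.mkQ.baseChange S (Q.subtype.baseChange S w)) = _
      rw [(hex _).mpr ⟨w, rfl⟩, map_zero, sub_zero]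
      rfl
    have hproj : Module.Projective R Q := projective_of_countable hinj'
      ⟨_, (by rw [Set.image_univ]; have := hC.to_subtype; exact Set.countable_range _), hQ⟩
    let g : ↥M'' →ₗ[R] ↥Q := M'.mkQ.restrict fun x hx => Submodule.mem_map_of_mem hx
    have hg : Function.Surjective g := by
      rintro ⟨_, x, hx, rfl⟩
      exact ⟨⟨x, hx⟩, rfl⟩
    obtain ⟨σ, hσ⟩ := Module.projective_lifting_property g LinearMap.id hg
    let N := LinearMap.range (M''.subtype ∘ₗ σ)
    have hσ' : ∀ y, M'.mkQ (σ y : M) = (y : M ⧸ M') := fun y =>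
      congrArg Subtype.val (LinearMap.congr_fun hσ y)
    have hdisj : Disjoint N M' := by
      rw [Submodule.disjoint_def]
      rintro _ ⟨y, rfl⟩ hy
      have : y = 0 := Subtype.ext (by
        rw [← hσ' y]; exact (Submodule.Quotient.mk_eq_zero M').mpr hy)
      simp [this]
    have hsup : N ⊔ M' = M'' := by
      refine le_antisymm (sup_le ?_ hle) fun x hx => ?_
      · rintro _ ⟨y, rfl⟩; exact (σ y).2
      · refine Submodule.mem_sup.mpr ⟨_, ⟨g ⟨x, hx⟩, rfl⟩, x - σ (g ⟨x, hx⟩), ?_, by simp⟩
        refine (Submodule.Quotient.mk_eq_zero M').mp ?_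
        change M'.mkQ (x - _) = 0
        rw [map_sub, hσ']
        exact sub_self _
    have hNP : Module.Projective R N := by
      refine Module.Projective.of_equiv (LinearEquiv.ofInjective _ fun a b hab => ?_)
      exact Subtype.ext (by rw [← hσ' a, ← hσ' b]; exact congrArg _ hab)
    have hmem : (insert N 𝒩, J'') ∈ P := by
      refine ⟨?_, independent_insert hI hdisj, fun x hx => hx.elim (fun h => h ▸ hNP) (hP x)⟩
      change Adapted i p (sSup (insert N 𝒩)) J''
      rw [sSup_insert, hsup]
      exact hA'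
    have := (hmax.2 hmem ⟨Set.subset_insert _ _, hJ⟩).1 (Set.mem_insert N 𝒩)
    exact hm ((le_sSup this : N ≤ M') |> fun h => (sup_eq_right.mpr h ▸ hsup).symm ▸
      (Submodule.mem_sup_right (Submodule.subset_span hmC) : m ∈ M''))
  have : ∀ N : ↥𝒩, Module.Projective R N.1 := fun N => hP N.1 N.2
  have hint : DirectSum.IsInternal (fun N : ↥𝒩 => N.1) :=
    DirectSum.isInternal_submodule_iff_iSupIndep_and_iSup_eq_top _ |>.mpr
      ⟨(sSupIndep_iff _).mp hI, by rw [← sSup_eq_iSup', htop]⟩
  exact Module.Projective.of_equiv (LinearEquiv.ofBijective (DirectSum.coeLinearMap _) hint)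

end GrothLib.FinInjDescent
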